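import Groth.Agent.L04.LC.ExtCompare
import Groth.Agent.S6318
import Mathlib.CategoryTheory.Monoidal.Tor
import Mathlib.Algebra.Category.ModuleCat.Monoidal.Closed
import Mathlib.Algebra.Homology.Opposite
import Mathlib.Algebra.Homology.ShortComplex.PreservesHomology
import Mathlib.CategoryTheory.Abelian.Exact
import Mathlib.Algebra.Category.ModuleCat.Projective
import Mathlib.LinearAlgebra.Contraction

/-! `Tor_i(E, M) = Hom(Ext^i(M, R), E)` for `E` injective and `M` finite over a Noetherian ring. -/

set_option autoImplicit false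
set_option backward.isDefEq.respectTransparency false
set_option backward.isDefEq.respectTransparency.types false

universe u

open CategoryTheory CategoryTheory.Limits MonoidalCategory Opposite

open scoped TensorProduct

namespace Groth.L04.DualTor

noncomputable section

variable {R : Type u} [CommRing R] (E : ModuleCat.{u} R)

/-- `Hom(-, E)`. -/
abbrev G : (ModuleCat.{u} R)ᵒᵖ ⥤ ModuleCat.{u} R := (linearYoneda R (ModuleCat.{u} R)).obj E

theorem preservesHomology_G [Module.Injective R E] : (G E).PreservesHomology := by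
  refine Functor.preservesHomology_of_map_exact _ fun S hS => ?_
  have hS' := (ShortComplex.ShortExact.moduleCat_exact_iff_function_exact _).1 hS.unop
  refine (ShortComplex.moduleCat_exact_iff _).2 fun φ hφ => ?_
  let f : (S.X₃.unop : Type u) →ₗ[R] S.X₂.unop := S.g.unop.hom
  let g : (S.X₂.unop : Type u) →ₗ[R] S.X₁.unop := S.f.unop.hom
  let φ' : (S.X₂.unop : Type u) →ₗ[R] E := (φ : S.X₂.unop ⟶ E).hom
  have hφ' : φ' ∘ₗ f = 0 := congrArg ModuleCat.Hom.hom (hφ : S.g.unop ≫ (φ : S.X₂.unop ⟶ E) = 0)
  have hker : LinearMap.ker g ≤ LinearMap.ker φ' := by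
    intro y hy
    obtain ⟨x, rfl⟩ := (hS' y).1 hy
    exact LinearMap.congr_fun hφ' x
  obtain ⟨ψ, hψ⟩ := (inferInstance : Module.Injective R E).out
    ((LinearMap.ker g).liftQ g le_rfl) (LinearMap.ker_eq_bot.1 (Submodule.ker_liftQ_eq_bot' _ _ rfl))
    ((LinearMap.ker g).liftQ φ' hker)
  refine ⟨ModuleCat.ofHom ψ, ?_⟩
  change S.f.unop ≫ ModuleCat.ofHom ψ = (φ : S.X₂.unop ⟶ E)
  exact ModuleCat.hom_ext (LinearMap.ext fun y => hψ (Submodule.Quotient.mk y))

/-- `e ⊗ x ↦ (h ↦ h x • e)`. -/
def ev (F : ModuleCat.{u} R) : (E : Type u) ⊗[R] F →ₗ[R] ((F ⟶ ModuleCat.of R R) →ₗ[R] E) :=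
  TensorProduct.lift (LinearMap.mk₂ R
    (fun e x =>
      { toFun := fun h => h.hom x • e
        map_add' := fun h h' => by rw [ModuleCat.hom_add, LinearMap.add_apply, add_smul]
        map_smul' := fun r h => by rw [ModuleCat.hom_smul, LinearMap.smul_apply, smul_assoc, RingHom.id_apply] })
    (fun e e' x => LinearMap.ext fun h => smul_add _ _ _)
    (fun r e x => LinearMap.ext fun h => smul_comm _ _ _)
    (fun e x x' => LinearMap.ext fun h => by
      change h.hom (x + x') • e = h.hom x • e + h.hom x' • e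
      rw [map_add, add_smul])
    (fun r e x => LinearMap.ext fun h => by
      change h.hom (r • x) • e = r • h.hom x • e
      rw [map_smul, smul_assoc]))

theorem ev_tmul (F : ModuleCat.{u} R) (e : E) (x : F) (h : F ⟶ ModuleCat.of R R) :
    ev E F (e ⊗ₜ x) h = h.hom x • e := rfl

theorem ev_bijective (F : ModuleCat.{u} R) [Module.Finite R F] [Module.Free R F] :
    Function.Bijective (ev E F) := by
  classical
  rcases subsingleton_or_nontrivial R with hR | hR
  · haveI : Subsingleton ((E : Type u) ⊗[R] F) := Module.subsingleton R _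
    haveI : Subsingleton ((F ⟶ ModuleCat.of R R) →ₗ[R] E) := Module.subsingleton R _
    exact ⟨fun _ _ _ => Subsingleton.elim _ _, fun y => ⟨0, Subsingleton.elim _ _⟩⟩
  let b := Module.Free.chooseBasis R F
  have hcoord : ∀ (h : F ⟶ ModuleCat.of R R),
      ∑ i, h.hom (b i) • ModuleCat.ofHom (b.coord i) = h := fun h =>
    ModuleCat.hom_ext (b.ext fun j => by simp [ModuleCat.hom_sum, Finsupp.single_apply])
  refine Function.bijective_iff_has_inverse.2
    ⟨fun ψ => ∑ i, ψ (ModuleCat.ofHom (b.coord i)) ⊗ₜ[R] b i, fun t => ?_, fun ψ => ?_⟩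
  · induction t using TensorProduct.induction_on with
    | zero => simp
    | tmul e x =>
      simp only [ev_tmul, ModuleCat.hom_ofHom, TensorProduct.smul_tmul, ← TensorProduct.tmul_sum]
      congr 1
      exact b.sum_repr x
    | add s t hs ht =>
      simp only [map_add, LinearMap.add_apply, TensorProduct.add_tmul, Finset.sum_add_distrib] at hs ht ⊢
      rw [hs, ht]
  · refine LinearMap.ext fun h => ?_
    simp only [map_sum, LinearMap.sum_apply, ev_tmul]
    rw [show (∑ i, h.hom (b i) • ψ (ModuleCat.ofHom (b.coord i))) = ψ (∑ i, h.hom (b i) • ModuleCat.ofHom (b.coord i)) by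
      rw [map_sum]; exact Finset.sum_congr rfl fun i _ => (map_smul ψ _ _).symm, hcoord]

variable {M : ModuleCat.{u} R} (P : ProjectiveResolution M)

/-- `Hom(Hom(P, R), E)`. -/
def bidual : ChainComplex (ModuleCat.{u} R) ℕ :=
  ((G E).mapHomologicalComplex (ComplexShape.down ℕ)).obj
    ((P.complex.linearYonedaObj R (ModuleCat.of R R)).op :
      HomologicalComplex (ModuleCat.{u} R)ᵒᵖ (ComplexShape.down ℕ))

/-- The embedding of `E ⊗ P` into the double dual. -/
def evHom : (((tensoringLeft (ModuleCat.{u} R)).obj E).mapHomologicalComplex (ComplexShape.down ℕ)).obj P.complex ⟶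
    bidual E P where
  f n := ModuleCat.ofHom
    { toFun := fun t => ModuleCat.ofHom (ev E (P.complex.X n) t)
      map_add' := fun s t => congrArg ModuleCat.ofHom (map_add (ev E (P.complex.X n)) s t)
      map_smul' := fun r t => congrArg ModuleCat.ofHom (map_smul (ev E (P.complex.X n)) r t) }
  comm' i j _ := by
    refine ModuleCat.hom_ext (TensorProduct.ext' fun e x => ?_)
    refine ModuleCat.hom_ext (LinearMap.ext fun h => ?_)
    rfl

theorem nonempty_tor_iso [Module.Injective R E]
    [∀ n, Module.Finite R (P.complex.X n)] [∀ n, Module.Free R (P.complex.X n)] (i : ℕ) :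
    Nonempty (((Tor (ModuleCat.{u} R) i).obj E).obj M ≅
      (G E).obj (op ((P.complex.linearYonedaObj R (ModuleCat.of R R)).homology i))) := by
  haveI := preservesHomology_G E
  haveI : ∀ n, IsIso ((evHom E P).f n) := fun n => by
    rw [ConcreteCategory.isIso_iff_bijective]
    refine ⟨fun s t hst => (ev_bijective E (P.complex.X n)).1 (congrArg ModuleCat.Hom.hom hst), fun ψ => ?_⟩
    obtain ⟨t, ht⟩ := (ev_bijective E (P.complex.X n)).2 (ψ : ModuleCat.of R (P.complex.X n ⟶ ModuleCat.of R R) ⟶ E).hom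
    exact ⟨t, ModuleCat.hom_ext ht⟩
  haveI := HomologicalComplex.Hom.isIso_of_components (evHom E P)
  let Q := P.complex.linearYonedaObj R (ModuleCat.of R R)
  exact ⟨P.isoLeftDerivedObj ((tensoringLeft (ModuleCat.{u} R)).obj E) i ≪≫
    (HomologicalComplex.homologyFunctor (ModuleCat.{u} R) (ComplexShape.down ℕ) i).mapIso (asIso (evHom E P)) ≪≫
    ((Q.op : HomologicalComplex (ModuleCat.{u} R)ᵒᵖ (ComplexShape.down ℕ)).sc i).mapHomologyIso (G E) ≪≫
    (G E).mapIso (Q.homologyOp i)⟩

theorem nonempty_tor_linearEquiv [IsNoetherianRing R] (E : Type u) [AddCommGroup E] [Module R E]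
    [Module.Injective R E] (N : Type u) [AddCommGroup N] [Module R N] [Module.Finite R N] (i : ℕ) :
    Nonempty ((((Tor (ModuleCat.{u} R) i).obj (ModuleCat.of R E)).obj (ModuleCat.of R N) : Type u) ≃ₗ[R]
      (Abelian.Ext (ModuleCat.of R N) (ModuleCat.of R R) i →ₗ[R] E)) := by
  obtain ⟨P, hP⟩ := Groth.Agent.S6318.result R N
  haveI := fun n => (hP n).1
  haveI := fun n => (hP n).2
  obtain ⟨e⟩ := nonempty_tor_iso (ModuleCat.of R E) P i
  exact ⟨e.toLinearEquiv ≪≫ₗ ModuleCat.homLinearEquiv ≪≫ₗ
    LinearEquiv.congrLeft E R (Groth.L04.LC.homologyEquivExt P i (ModuleCat.of R R))⟩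

end

end Groth.L04.DualTor
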